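import Mathlib.RingTheory.Algebraic.Integral
import Mathlib.RingTheory.Jacobson.Ring
import Mathlib.FieldTheory.IsAlgClosed.AlgebraicClosure
import Mathlib.RingTheory.Ideal.GoingUp
import Mathlib.Algebra.MvPolynomial.Degrees
import Mathlib.Algebra.MvPolynomial.NoZeroDivisors
import Mathlib.RingTheory.Ideal.MinimalPrime.Localization
import Mathlib.Algebra.MvPolynomial.Nilpotent
import Mathlib.RingTheory.FiniteType
import Mathlib.RingTheory.FiniteStability
import Mathlib.RingTheory.Localization.InvSubmonoid

/-! Points of affine varieties, extension of points, and irreducibility in families. -/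

noncomputable section

set_option linter.style.haveILetI false
set_option linter.unusedSectionVars false

universe u

open TensorProduct

namespace Groth.Agent.CurveConnLib

variable {k : Type u} [Field k] [IsAlgClosed k]

/-- A nonzero algebra of finite type over an algebraically closed field has a point. -/
theorem exists_point (A : Type u) [CommRing A] [Nontrivial A] [Algebra k A] [Algebra.FiniteType k A] :
    Nonempty (A →ₐ[k] k) := by
  obtain ⟨m, hm⟩ := Ideal.exists_maximal A
  letI : Field (A ⧸ m) := Ideal.Quotient.field m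
  haveI : Module.Finite k (A ⧸ m) := finite_of_finite_type_of_isJacobsonRing k (A ⧸ m)
  let e : k ≃ₐ[k] (A ⧸ m) := AlgEquiv.ofBijective (Algebra.ofId k (A ⧸ m))
    (IsAlgClosed.algebraMap_bijective_of_isIntegral (K := A ⧸ m))
  exact ⟨e.symm.toAlgHom.comp (Ideal.Quotient.mkₐ k m)⟩

/-- Away from a nonzero element a domain of finite type has a point. -/
theorem exists_point_ne_zero (B : Type u) [CommRing B] [IsDomain B] [Algebra k B] [Algebra.FiniteType k B]
    {f : B} (hf : f ≠ 0) : ∃ φ : B →ₐ[k] k, φ f ≠ 0 := by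
  let Bf := Localization.Away f
  haveI : Algebra.FiniteType B Bf := IsLocalization.finiteType_of_monoid_fg (Submonoid.powers f) Bf
  haveI : Algebra.FiniteType k Bf := .trans (S := B) inferInstance inferInstance
  haveI : IsDomain Bf := IsLocalization.isDomain_localization
    (powers_le_nonZeroDivisors_of_noZeroDivisors hf)
  obtain ⟨ψ⟩ := exists_point (k := k) Bf
  exact ⟨ψ.comp (IsScalarTower.toAlgHom k B Bf),
    ((IsLocalization.Away.algebraMap_isUnit f).map ψ).ne_zero⟩

/-- Points extend along an algebraic injection of domains, off a nonzero element. -/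
theorem exists_lift (R D : Type u) [CommRing R] [IsDomain R] [CommRing D] [IsDomain D] [Algebra k R] [Algebra k D]
    [Algebra R D] [IsScalarTower k R D] [Algebra.FiniteType k D] [FaithfulSMul R D] [Algebra.IsAlgebraic R D]
    {f : D} (hf : f ≠ 0) :
    ∃ r : R, r ≠ 0 ∧ ∀ c : R →ₐ[k] k, c r ≠ 0 →
      ∃ φ : D →ₐ[k] k, φ f ≠ 0 ∧ ∀ x, φ (algebraMap R D x) = c x := by
  classical
  let Df := Localization.Away f
  haveI : Algebra.FiniteType D Df := IsLocalization.finiteType_of_monoid_fg (Submonoid.powers f) Df
  haveI : Algebra.FiniteType k Df := .trans (S := D) inferInstance inferInstance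
  have hle := powers_le_nonZeroDivisors_of_noZeroDivisors hf
  haveI : IsDomain Df := IsLocalization.isDomain_localization hle
  haveI : FaithfulSMul R Df := (faithfulSMul_iff_algebraMap_injective R Df).mpr <| by
    rw [IsScalarTower.algebraMap_eq R D Df]
    exact (IsLocalization.injective Df hle).comp (FaithfulSMul.algebraMap_injective R D)
  haveI : Algebra.IsAlgebraic R Df := by
    haveI : Algebra.IsAlgebraic D Df := IsLocalization.isAlgebraic Df (Submonoid.powers f)
    exact Algebra.IsAlgebraic.trans R D Df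
  obtain ⟨s, hs⟩ := (inferInstance : Algebra.FiniteType k Df).out
  obtain ⟨r, hr0, hr⟩ := Algebra.IsAlgebraic.exists_integral_multiples R (s : Finset Df)
  refine ⟨r, hr0, fun c hc => ?_⟩
  let C := integralClosure R Df
  have key : ∀ y : Df, ∃ n : ℕ, r ^ n • y ∈ C := by
    intro y
    have hy : y ∈ Algebra.adjoin k (s : Set Df) := hs ▸ trivial
    induction hy using Algebra.adjoin_induction with
    | mem x hx => exact ⟨1, by rw [pow_one]; exact hr x hx⟩
    | algebraMap a =>
      refine ⟨0, ?_⟩
      rw [pow_zero, one_smul, IsScalarTower.algebraMap_apply k R Df]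
      exact C.algebraMap_mem _
    | add a b _ _ ha hb =>
      obtain ⟨m, hm⟩ := ha; obtain ⟨n, hn⟩ := hb
      refine ⟨m + n, ?_⟩
      rw [smul_add]
      refine C.add_mem ?_ ?_
      · rw [add_comm, pow_add, mul_smul]; exact C.smul_mem hm _
      · rw [pow_add, mul_smul]; exact C.smul_mem hn _
    | mul a b _ _ ha hb =>
      obtain ⟨m, hm⟩ := ha; obtain ⟨n, hn⟩ := hb
      refine ⟨m + n, ?_⟩
      rw [pow_add, ← smul_mul_smul_comm]
      exact C.mul_mem hm hn
  let rD : Df := algebraMap R Df r
  let E := Localization.Away rD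
  have hrD : rD ≠ 0 := (map_ne_zero_iff _ (FaithfulSMul.algebraMap_injective R Df)).mpr hr0
  have hleE := powers_le_nonZeroDivisors_of_noZeroDivisors hrD
  let rC : C := algebraMap R C r
  haveI : IsScalarTower k C E := .of_algebraMap_eq (R := k) (S := C) (A := E) fun a => by
    show algebraMap k E a = algebraMap Df E ((algebraMap k C a : C) : Df)
    rw [IsScalarTower.algebraMap_apply k Df E]; rfl
  have hinjE : Function.Injective (algebraMap C E) := fun a b h =>
    Subtype.ext (IsLocalization.injective E hleE h)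
  have hrE : algebraMap C E rC = algebraMap Df E rD := rfl
  haveI hloc : IsLocalization.Away rC E := by
    constructor
    constructor
    · rintro ⟨_, n, rfl⟩
      show IsUnit (algebraMap C E (rC ^ n))
      rw [map_pow, hrE]
      exact (IsLocalization.Away.algebraMap_isUnit rD).pow n
    · intro z
      obtain ⟨m, y, hy⟩ := IsLocalization.Away.surj rD z
      obtain ⟨n, hn⟩ := key y
      refine ⟨(⟨r ^ n • y, hn⟩, ⟨rC ^ (m + n), m + n, rfl⟩), ?_⟩
      show z * algebraMap C E (rC ^ (m + n)) = algebraMap Df E (r ^ n • y)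
      rw [map_pow, hrE, pow_add, ← mul_assoc, hy, Algebra.smul_def, map_mul, mul_comm, map_pow, map_pow]
    · intro a b h
      exact ⟨1, by rw [hinjE h]⟩
  haveI : (RingHom.ker c.toRingHom).IsPrime := RingHom.ker_isPrime _
  obtain ⟨Q, -, hQ, hQc⟩ := Ideal.exists_ideal_over_prime_of_isIntegral (S := C) (RingHom.ker c.toRingHom) ⊥
    (fun x hx => by
      have hx0 : algebraMap R C x = 0 := hx
      have h0 : x = 0 := FaithfulSMul.algebraMap_injective R Df
        ((congrArg Subtype.val hx0).trans (map_zero _).symm)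
      rw [h0]; exact zero_mem _)
  haveI := hQ
  haveI : Algebra.IsIntegral k (C ⧸ Q) := ⟨fun y => by
    obtain ⟨y, rfl⟩ := Ideal.Quotient.mk_surjective y
    obtain ⟨p, hp, hpy⟩ := Algebra.IsIntegral.isIntegral (R := R) y
    refine ⟨p.map c.toRingHom, hp.map _, ?_⟩
    rw [Polynomial.eval₂_map]
    have h1 : (algebraMap k (C ⧸ Q)).comp c.toRingHom = (Ideal.Quotient.mk Q).comp (algebraMap R C) := by
      refine RingHom.ext fun x => (Ideal.Quotient.eq.mpr ?_).symm
      show algebraMap R C x - algebraMap k C (c x) ∈ Q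
      have h2 : x - algebraMap k R (c x) ∈ Q.comap (algebraMap R C) := by
        rw [hQc]; simp [RingHom.mem_ker]
      rw [Ideal.mem_comap, map_sub, ← IsScalarTower.algebraMap_apply] at h2
      exact h2
    rw [h1, ← Polynomial.hom_eval₂, hpy, map_zero]⟩
  let e : k ≃ₐ[k] (C ⧸ Q) := AlgEquiv.ofBijective (Algebra.ofId k _)
    (IsAlgClosed.algebraMap_bijective_of_isIntegral (K := C ⧸ Q))
  let ψ : C →ₐ[k] k := e.symm.toAlgHom.comp (Ideal.Quotient.mkₐ k Q)
  have hψ : ∀ x, ψ (algebraMap R C x) = c x := fun x => by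
    show e.symm (Ideal.Quotient.mk Q (algebraMap R C x)) = c x
    rw [AlgEquiv.symm_apply_eq]
    show _ = algebraMap k (C ⧸ Q) (c x)
    refine Ideal.Quotient.eq.mpr ?_
    show algebraMap R C x - algebraMap k C (c x) ∈ Q
    have h2 : x - algebraMap k R (c x) ∈ Q.comap (algebraMap R C) := by
      rw [hQc]; simp [RingHom.mem_ker]
    rw [Ideal.mem_comap, map_sub, ← IsScalarTower.algebraMap_apply] at h2
    exact h2
  have hu : IsUnit (ψ rC) := by rw [hψ]; exact isUnit_iff_ne_zero.mpr hc
  let φE : E →ₐ[k] k := IsLocalization.liftAlgHom (M := Submonoid.powers rC) (f := ψ) (by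
    rintro ⟨_, n, rfl⟩
    show IsUnit (ψ (rC ^ n))
    rw [map_pow]; exact hu.pow n)
  refine ⟨(φE.comp (IsScalarTower.toAlgHom k Df E)).comp (IsScalarTower.toAlgHom k D Df), ?_, fun x => ?_⟩
  · exact (((IsLocalization.Away.algebraMap_isUnit f).map (algebraMap Df E)).map φE).ne_zero
  · show φE (algebraMap Df E (algebraMap D Df (algebraMap R D x))) = c x
    rw [← IsScalarTower.algebraMap_apply R D Df, ← hψ x]
    exact IsLocalization.lift_eq _ (algebraMap R C x)

open MvPolynomial in
/-- The finite set of exponents of degree at most `a`. -/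
def expts (σ : Type) [Fintype σ] [DecidableEq σ] (a : ℕ) : Finset (σ →₀ ℕ) :=
  ((Fintype.piFinset fun _ : σ => Finset.range (a + 1)).image
    (fun v => Finsupp.equivFunOnFinite.symm v)).filter (fun v => v.sum (fun _ e => e) ≤ a)

theorem mem_expts {σ : Type} [Fintype σ] [DecidableEq σ] {a : ℕ} {v : σ →₀ ℕ} :
    v ∈ expts σ a ↔ v.sum (fun _ e => e) ≤ a := by
  refine ⟨fun h => (Finset.mem_filter.mp h).2, fun h => Finset.mem_filter.mpr ⟨Finset.mem_image.mpr
    ⟨v, Fintype.mem_piFinset.mpr fun i => Finset.mem_range.mpr ?_, by ext i; rfl⟩, h⟩⟩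
  have h1 : v i ≤ v.sum (fun _ e => e) := by
    by_cases hi : i ∈ v.support
    · exact Finset.single_le_sum (f := fun j => v j) (fun _ _ => Nat.zero_le _) hi
    · rw [Finsupp.notMem_support_iff.mp hi]; exact Nat.zero_le _
  omega

open MvPolynomial in
/-- Irreducibility of the member at the generic point spreads to almost all members. -/
theorem exists_irreducible {σ : Type} [Fintype σ] (R Ω : Type u) [CommRing R] [IsDomain R] [Algebra k R]
    [Algebra.FiniteType k R] [Field Ω] [IsAlgClosed Ω] [Algebra R Ω] [FaithfulSMul R Ω] [Algebra.IsAlgebraic R Ω]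
    (P : MvPolynomial σ R) (hP : Irreducible (map (algebraMap R Ω) P)) :
    ∃ r : R, r ≠ 0 ∧ ∀ c : R →ₐ[k] k, c r ≠ 0 → Irreducible (map c.toRingHom P) := by
  classical
  let n := P.totalDegree
  have hinj := FaithfulSMul.algebraMap_injective R Ω
  have htd : (map (algebraMap R Ω) P).totalDegree = n := by
    show (map (algebraMap R Ω) P).support.sup _ = P.support.sup _
    rw [support_map_of_injective _ hinj]
  have hn : 0 < n := Nat.pos_of_ne_zero fun h0 => hP.not_isUnit (by
    rw [isUnit_iff_totalDegree_of_isReduced]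
    refine ⟨?_, htd.trans h0⟩
    rw [isUnit_iff_ne_zero]
    intro hc
    apply hP.ne_zero
    rw [totalDegree_eq_zero_iff_eq_C.mp (htd.trans h0), hc, map_zero])
  have hP0 : P ≠ 0 := fun h => hP.ne_zero (by rw [h, map_zero])
  obtain ⟨v₀, hv₀, hv₀n⟩ : ∃ v ∈ P.support, v.sum (fun _ e => e) = n := by
    obtain ⟨v, hv, h⟩ := Finset.exists_mem_eq_sup _ (support_nonempty.mpr hP0)
      (fun s : σ →₀ ℕ => s.sum fun _ e => e)
    exact ⟨v, hv, h.symm⟩
  have hstep : ∀ a ∈ Finset.Ico 1 n, ∃ r : R, r ≠ 0 ∧ ∀ c : R →ₐ[k] k, c r ≠ 0 →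
      ∀ G H : MvPolynomial σ k, G.totalDegree ≤ a → H.totalDegree ≤ n - a → G * H ≠ map c.toRingHom P := by
    intro a ha
    rw [Finset.mem_Ico] at ha
    let ι := (expts σ a) ⊕ (expts σ (n - a))
    let Gu : MvPolynomial σ (MvPolynomial ι R) := ∑ v : expts σ a, monomial v.1 (X (Sum.inl v))
    let Hu : MvPolynomial σ (MvPolynomial ι R) := ∑ v : expts σ (n - a), monomial v.1 (X (Sum.inr v))
    let J : Ideal (MvPolynomial ι R) := Ideal.span (Set.range fun v => coeff v (Gu * Hu - map C P))
    by_contra hcon
    push Not at hcon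
    -- the equations have no kernel on the base
    have hJ : ∀ r : R, C r ∈ J → r = 0 := by
      intro r hr
      by_contra hr0
      obtain ⟨c, hc, G, H, hG, hH, hGH⟩ := hcon r hr0
      let e : MvPolynomial ι R →+* k := eval₂Hom c.toRingHom
        (Sum.elim (fun v => coeff v.1 G) (fun v => coeff v.1 H))
      have hsum : ∀ (b : ℕ) (Q : MvPolynomial σ k), Q.totalDegree ≤ b →
          (∑ v : expts σ b, monomial v.1 (coeff v.1 Q)) = Q := by
        intro b Q hQ
        rw [Finset.sum_coe_sort (expts σ b) (fun v => monomial v (coeff v Q))]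
        conv_rhs => rw [← support_sum_monomial_coeff Q]
        symm
        refine Finset.sum_subset (fun v hv => mem_expts.mpr ((le_totalDegree hv).trans hQ)) fun v _ hv => ?_
        rw [notMem_support_iff.mp hv, map_zero]
      have heG : map e Gu = G := by
        simp only [Gu, map_sum, map_monomial]
        refine Eq.trans (Finset.sum_congr rfl fun v _ => ?_) (hsum a G hG)
        simp [e]
      have heH : map e Hu = H := by
        simp only [Hu, map_sum, map_monomial]
        refine Eq.trans (Finset.sum_congr rfl fun v _ => ?_) (hsum (n - a) H hH)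
        simp [e]
      have heC : map e (map C P) = map c.toRingHom P := by
        rw [MvPolynomial.map_map, show e.comp C = c.toRingHom from RingHom.ext fun x => eval₂_C _ _ x]
      have hle : J ≤ RingHom.ker e := by
        refine Ideal.span_le.mpr ?_
        rintro _ ⟨v, rfl⟩
        show e (coeff v (Gu * Hu - map C P)) = 0
        rw [← coeff_map, map_sub, map_mul, heG, heH, heC, hGH, sub_self, coeff_zero]
      exact hc (by simpa [e] using hle hr)
    -- so there is a prime over the generic point
    let S := MvPolynomial ι R ⧸ J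
    have hSinj : Function.Injective (algebraMap R S) := by
      rw [injective_iff_map_eq_zero]
      intro r hr
      exact hJ r (Ideal.Quotient.eq_zero_iff_mem.mp hr)
    obtain ⟨q, hq, hq0⟩ := Ideal.exists_comap_eq_of_mem_minimalPrimes_of_injective hSinj ⊥ (by
      rw [IsDomain.minimalPrimes_eq_singleton_bot]; rfl)
    haveI := hq
    let Q : Ideal (MvPolynomial ι R) := q.comap (Ideal.Quotient.mk J)
    haveI : Q.IsPrime := Ideal.comap_isPrime (Ideal.Quotient.mk J) q
    let κ := FractionRing (MvPolynomial ι R ⧸ Q)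
    let Kb := AlgebraicClosure κ
    let eK : MvPolynomial ι R →+* Kb :=
      ((algebraMap κ Kb).comp (algebraMap (MvPolynomial ι R ⧸ Q) κ)).comp (Ideal.Quotient.mk Q)
    have heK : ∀ x, eK x = 0 ↔ x ∈ Q := fun x => by
      show algebraMap κ Kb (algebraMap (MvPolynomial ι R ⧸ Q) κ (Ideal.Quotient.mk Q x)) = 0 ↔ _
      rw [map_eq_zero_iff _ (algebraMap κ Kb).injective,
        map_eq_zero_iff _ (IsFractionRing.injective (MvPolynomial ι R ⧸ Q) κ), Ideal.Quotient.eq_zero_iff_mem]
    let φ : R →+* Kb := eK.comp C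
    have hφ : Function.Injective φ := by
      rw [injective_iff_map_eq_zero]
      intro r hr
      have h2 : r ∈ q.comap (algebraMap R S) := (heK (C r)).mp hr
      rw [hq0] at h2
      exact h2
    have hRK : ∀ r, algebraMap R Kb r = φ r := fun r => rfl
    haveI : FaithfulSMul R Kb := (faithfulSMul_iff_algebraMap_injective R Kb).mpr
      fun x y h => hφ ((hRK x).symm.trans (h.trans (hRK y)))
    let j : Ω →ₐ[R] Kb := IsAlgClosed.lift
    let T := Ω ⊗[R] S
    haveI : Nontrivial T := by
      let gS : S →ₐ[R] Kb := Ideal.Quotient.liftₐ J ({ eK with commutes' := fun r => rfl })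
        fun x hx => (heK x).mpr (by
          show Ideal.Quotient.mk J x ∈ q
          rw [Ideal.Quotient.eq_zero_iff_mem.mpr hx]; exact zero_mem _)
      exact RingHom.domain_nontrivial (Algebra.TensorProduct.lift j gS fun _ _ => Commute.all _ _).toRingHom
    haveI : Algebra.FiniteType R S := Algebra.FiniteType.of_surjective (Ideal.Quotient.mkₐ R J) Ideal.Quotient.mk_surjective
    haveI : Algebra.FiniteType Ω T := inferInstanceAs (Algebra.FiniteType Ω (Ω ⊗[R] S))
    obtain ⟨pt⟩ := exists_point (k := Ω) T
    let t : S →+* Ω := pt.toRingHom.comp (Algebra.TensorProduct.includeRight (R := R) (A := Ω) (B := S)).toRingHom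
    have ht : ∀ r, t (algebraMap R S r) = algebraMap R Ω r := fun r => by
      show pt (Algebra.TensorProduct.includeRight (algebraMap R S r)) = _
      rw [AlgHom.commutes, IsScalarTower.algebraMap_apply R Ω T, AlgHom.commutes]; rfl
    let e : MvPolynomial ι R →+* Ω := t.comp (Ideal.Quotient.mk J)
    have hprod : map e Gu * map e Hu = map (algebraMap R Ω) P := by
      rw [← map_mul]
      ext v
      have hv : coeff v (Gu * Hu - map C P) ∈ J := Ideal.subset_span ⟨v, rfl⟩
      have h1 : e (coeff v (Gu * Hu - map C P)) = 0 := by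
        show t (Ideal.Quotient.mk J _) = 0
        rw [Ideal.Quotient.eq_zero_iff_mem.mpr hv, map_zero]
      rw [coeff_sub, map_sub, sub_eq_zero, coeff_map] at h1
      rw [coeff_map, coeff_map, h1]
      exact ht _
    have hdeg : ∀ (b : ℕ) (f : expts σ b → Ω), (∑ v : expts σ b, monomial v.1 (f v)).totalDegree ≤ b := by
      intro b f
      refine totalDegree_finsetSum_le fun v _ => (totalDegree_monomial_le _ _).trans ?_
      exact mem_expts.mp v.2
    have hG : (map e Gu).totalDegree ≤ a := by
      simp only [Gu, map_sum, map_monomial]; exact hdeg a _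
    have hH : (map e Hu).totalDegree ≤ n - a := by
      simp only [Hu, map_sum, map_monomial]; exact hdeg (n - a) _
    have hne : map e Gu ≠ 0 ∧ map e Hu ≠ 0 := mul_ne_zero_iff.mp (hprod ▸ hP.ne_zero)
    have hadd : (map e Gu).totalDegree + (map e Hu).totalDegree = n := by
      rw [← totalDegree_mul_of_isDomain hne.1 hne.2, hprod, htd]
    rcases hP.isUnit_or_isUnit hprod.symm with h | h
    · have := (isUnit_iff_totalDegree_of_isReduced.mp h).2; omega
    · have := (isUnit_iff_totalDegree_of_isReduced.mp h).2; omega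
  choose r hr0 hr using hstep
  refine ⟨coeff v₀ P * ∏ a ∈ (Finset.Ico 1 n).attach, r a.1 a.2,
    mul_ne_zero (mem_support_iff.mp hv₀) (Finset.prod_ne_zero_iff.mpr fun a _ => hr0 a.1 a.2), fun c hc => ?_⟩
  rw [map_mul, mul_ne_zero_iff, map_prod, Finset.prod_ne_zero_iff] at hc
  have hcd : (map c.toRingHom P).totalDegree = n := by
    refine le_antisymm ?_ ?_
    · show (map c.toRingHom P).support.sup _ ≤ P.support.sup _
      exact Finset.sup_mono (support_map_subset _ _)
    · rw [← hv₀n]
      exact le_totalDegree (by rw [mem_support_iff, coeff_map]; exact hc.1)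
  have hc0 : map c.toRingHom P ≠ 0 := fun h => by rw [h, totalDegree_zero] at hcd; omega
  refine ⟨fun h => ?_, fun {G H} hGH => ?_⟩
  · have := (isUnit_iff_totalDegree_of_isReduced.mp h).2; omega
  · by_contra hcon
    push Not at hcon
    obtain ⟨hG0, hH0⟩ := mul_ne_zero_iff.mp (hGH ▸ hc0)
    have hadd : G.totalDegree + H.totalDegree = n := by
      rw [← totalDegree_mul_of_isDomain hG0 hH0, ← hGH, hcd]
    have hpos : ∀ Q : MvPolynomial σ k, Q ≠ 0 → ¬ IsUnit Q → 0 < Q.totalDegree := fun Q h0 hu =>
      Nat.pos_of_ne_zero fun h => hu (by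
        rw [totalDegree_eq_zero_iff_eq_C.mp h]
        refine (IsUnit.map C (isUnit_iff_ne_zero.mpr fun hc' => h0 ?_))
        rw [totalDegree_eq_zero_iff_eq_C.mp h, hc', map_zero])
    have hG1 := hpos G hG0 hcon.1
    have hH1 := hpos H hH0 hcon.2
    exact hr G.totalDegree (Finset.mem_Ico.mpr ⟨hG1, by omega⟩) c
      (hc.2 ⟨_, Finset.mem_Ico.mpr ⟨hG1, by omega⟩⟩ (Finset.mem_attach _ _)) G H le_rfl (by omega) hGH.symm

end Groth.Agent.CurveConnLib
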